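-- Stabilizer chain for MWE6C; generated, checked by the kernel.
import Cfsg.Agent.Lib.Compute.TC.MWE6.Final
import Cfsg.Agent.Lib.Compute.TCChain
set_option autoImplicit false
set_option maxRecDepth 1000000

open Cfsg.Agent.Lib.Compute.ToddCoxeterCore Cfsg.Agent.Lib.Compute.ToddCoxeterPresented Cfsg.Agent.Lib.Compute.TCFast Cfsg.Agent.Lib.Compute.TCChain

namespace Cfsg.Agent.Lib.Compute.TC.MWE6C

/-- the first level of the chain -/
def next0 : List PE := [.mul (.inv (.mul (.lt (nat_lit 3)) (.mul (.lt (nat_lit 2)) (.mul (.lt (nat_lit 5)) (.mul (.lt (nat_lit 1)) (.mul (.lt (nat_lit 2)) (.mul (.lt (nat_lit 3)) (.mul (.lt (nat_lit 0)) (.mul (.lt (nat_lit 1)) (.mul (.lt (nat_lit 2)) (.mul (.lt (nat_lit 5)) (.mul (.lt (nat_lit 4)) (.mul (.lt (nat_lit 3)) (.mul (.lt (nat_lit 2)) (.mul (.lt (nat_lit 1)) (.lt (nat_lit 0))))))))))))))))) (.mul (.lt (nat_lit 0)) (.mul (.lt (nat_lit 3)) (.mul (.lt (nat_lit 2))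 (.mul (.lt (nat_lit 5)) (.mul (.lt (nat_lit 1)) (.mul (.lt (nat_lit 2)) (.mul (.lt (nat_lit 3)) (.mul (.lt (nat_lit 0)) (.mul (.lt (nat_lit 1)) (.mul (.lt (nat_lit 2)) (.mul (.lt (nat_lit 5)) (.mul (.lt (nat_lit 4)) (.mul (.lt (nat_lit 3)) (.mul (.lt (nat_lit 2)) (.mul (.lt (nat_lit 1)) (.lt (nat_lit 0))))))))))))))))), .mul (.inv (.mul (.lt (nat_lit 5)) (.mul (.lt (nat_lit 4)) (.mul (.lt (nat_lit 3)) (.mul (.lt (nat_lit 2)) (.mul (.lt (nat_lit 1)) (.lt (nat_lit 0)))))))) (.mul (.lt (nat_lit 0)) (.mul (.lt (nat_lit 5)) (.mul (.lt (nat_lit 4)) (.mul (.lt (nat_lit 3)) (.mul (.lt (nat_lit 2)) (.mul (.lt (nat_lit 1)) (.lt (nat_lit 0)))))))), .mul (.inv (.mul (.lt (nat_lit 0)) (.mul (.lt (nat_lit 1)) (.mul (.lt (nat_lit 2)) (.mul (.lt (nat_lit 5)) (.mul (.lt (nat_lit 4)) (.mul (.lt (nat_lit 3)) (.mul (.lt (nat_lit 2)) (.mul (.lt (nat_lit 1)) (.lt (nat_lit 0))))))))))) (.mul (.lt (nat_lit 5)) (.mul (.lt (nat_lit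 0)) (.mul (.lt (nat_lit 1)) (.mul (.lt (nat_lit 2)) (.mul (.lt (nat_lit 5)) (.mul (.lt (nat_lit 4)) (.mul (.lt (nat_lit 3)) (.mul (.lt (nat_lit 2)) (.mul (.lt (nat_lit 1)) (.lt (nat_lit 0))))))))))), .mul (.inv (.mul (.lt (nat_lit 3)) (.mul (.lt (nat_lit 2)) (.mul (.lt (nat_lit 5)) (.mul (.lt (nat_lit 4)) (.mul (.lt (nat_lit 3)) (.mul (.lt (nat_lit 2)) (.mul (.lt (nat_lit 1)) (.lt (nat_lit 0)))))))))) (.mul (.lt (nat_lit 4)) (.mul (.lt (nat_lit 3)) (.mul (.lt (nat_lit 2)) (.mul (.lt (nat_lit 5)) (.mul (.lt (nat_lit 4)) (.mul (.lt (nat_lit 3)) (.mul (.lt (nat_lit 2)) (.mul (.lt (nat_lit 1)) (.lt (nat_lit 0)))))))))), .mul (.inv (.mul (.lt (nat_lit 5)) (.mul (.lt (nat_lit 2)) (.mul (.lt (nat_lit 3)) (.mul (.lt (nat_lit 0)) (.mul (.lt (nat_lit 1)) (.mul (.lt (nat_lit 2)) (.mul (.lt (nat_lit 5)) (.mul (.lt (nat_lit 4)) (.mul (.lt (nat_lit 3)) (.mul (.lt (nat_lit 2)) (.mul (.lt (nat_lit 1)) (.lt (nat_lit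 0)))))))))))))) (.mul (.lt (nat_lit 3)) (.mul (.lt (nat_lit 5)) (.mul (.lt (nat_lit 2)) (.mul (.lt (nat_lit 3)) (.mul (.lt (nat_lit 0)) (.mul (.lt (nat_lit 1)) (.mul (.lt (nat_lit 2)) (.mul (.lt (nat_lit 5)) (.mul (.lt (nat_lit 4)) (.mul (.lt (nat_lit 3)) (.mul (.lt (nat_lit 2)) (.mul (.lt (nat_lit 1)) (.lt (nat_lit 0))))))))))))))]

/-- the orbit table of level 0 -/
noncomputable def tb0 : TT := .leaf (nat_lit 0x50300000e000014040400000d000012030200000b000010020200000900000d020100000900000c010100000800000b010000000800000a000000000000000902040000090000080104000008000007030300000700000602020000060000050203000006000004030300000400000304040000020000020501000001000001)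
/-- level 0 -/
noncomputable def lv0 : Lvl where
  b := nat_lit 9
  n := nat_lit 16
  t := fun k => TT.fld tb0 (nat_lit 64) (nat_lit 255) (nat_lit 18446744073709551615) k
  next := [.mul (.inv (.mul (.lt (nat_lit 1)) (.mul (.lt (nat_lit 4)) (.mul (.lt (nat_lit 3)) (.mul (.lt (nat_lit 2)) (.lt (nat_lit 4))))))) (.mul (.lt (nat_lit 4)) (.mul (.lt (nat_lit 1)) (.mul (.lt (nat_lit 4)) (.mul (.lt (nat_lit 3)) (.mul (.lt (nat_lit 2)) (.lt (nat_lit 4))))))), .mul (.inv (.one)) (.mul (.lt (nat_lit 3)) (.one)), .mul (.inv (.mul (.lt (nat_lit 2)) (.mul (.lt (nat_lit 1)) (.lt (nat_lit 0))))) (.mul (.lt (nat_lit 0)) (.mul (.lt (nat_lit 2)) (.mul (.lt (nat_lit 1)) (.lt (nat_lit 0))))), .mul (.inv (.mul (.lt (nat_lit 4)) (.lt (nat_lit 0)))) (.mul (.lt (nat_lit 2)) (.mul (.lt (nat_lit 4)) (.lt (nat_lit 0))))]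

/-- the orbit table of level 1 -/
noncomputable def tb1 : TT := .leaf (nat_lit 0x5010000080000140403000006000012030300000400000d030000000400000b020300000300000a02020000030000070101000001000005010200000100000400000000000000030100000001000001)
/-- level 1 -/
noncomputable def lv1 : Lvl where
  b := nat_lit 3
  n := nat_lit 10
  t := fun k => TT.fld tb1 (nat_lit 64) (nat_lit 255) (nat_lit 18446744073709551615) k
  next := [.mul (.inv (.lt (nat_lit 2))) (.mul (.lt (nat_lit 0)) (.lt (nat_lit 2))), .mul (.inv (.mul (.lt (nat_lit 3)) (.mul (.lt (nat_lit 2)) (.lt (nat_lit 1))))) (.mul (.lt (nat_lit 1)) (.mul (.lt (nat_lit 3)) (.mul (.lt (nat_lit 2)) (.lt (nat_lit 1))))), .mul (.inv (.mul (.lt (nat_lit 1)) (.mul (.lt (nat_lit 3)) (.mul (.lt (nat_lit 0)) (.mul (.lt (nat_lit 2)) (.lt (nat_lit 1))))))) (.mul (.lt (nat_lit 2)) (.mul (.lt (nat_lit 1)) (.mul (.lt (nat_lit 3)) (.mul (.lt (nat_lit 0)) (.mul (.lt (nat_lit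 2)) (.lt (nat_lit 1)))))))]

/-- the orbit table of level 2 -/
noncomputable def tb2 : TT := .leaf (nat_lit 0x301000004000012020200000100000b020100000200000a010200000000000501000000000000040000000000000001)
/-- level 2 -/
noncomputable def lv2 : Lvl where
  b := nat_lit 1
  n := nat_lit 6
  t := fun k => TT.fld tb2 (nat_lit 64) (nat_lit 255) (nat_lit 18446744073709551615) k
  next := [.mul (.inv (.mul (.lt (nat_lit 1)) (.mul (.lt (nat_lit 2)) (.lt (nat_lit 0))))) (.mul (.lt (nat_lit 2)) (.mul (.lt (nat_lit 1)) (.mul (.lt (nat_lit 2)) (.lt (nat_lit 0)))))]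

/-- the orbit table of level 3 -/
noncomputable def tb3 : TT := .leaf (nat_lit 0x12010000000100000b)
/-- level 3 -/
noncomputable def lv3 : Lvl where
  b := nat_lit 18
  n := nat_lit 2
  t := fun k => TT.fld tb3 (nat_lit 64) (nat_lit 255) (nat_lit 18446744073709551615) k
  next := []

/-- the chain -/
noncomputable def ls : List Lvl := [lv0, lv1, lv2, lv3]

theorem fix0 : fixAll (ev0 Cfsg.Agent.Lib.Compute.TC.MWE6.cfg) 0 next0 = true := by decide +kernel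

theorem chainOK : chainChk Cfsg.Agent.Lib.Compute.TC.MWE6.cfg.N ls (evN (ev0 Cfsg.Agent.Lib.Compute.TC.MWE6.cfg) next0) = true := by decide +kernel

theorem prodEq : Cfsg.Agent.Lib.Compute.TC.MWE6.cfg.N * (ls.map (·.n)).prod = 51840 := by decide +kernel

end Cfsg.Agent.Lib.Compute.TC.MWE6C
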